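import Cfsg.Agent.Class.AL.Exc
import Cfsg.Agent.Class.Asch.Cases

/-!
Maximal subgroups of special linear groups: the subgroup structure theorem with the redundant
cases over small fields removed.
-/

set_option autoImplicit false
set_option linter.unusedSectionVars false
set_option synthInstance.maxSize 2048

namespace Cfsg.Lib.Class.AL

open Matrix Cfsg.Geo Cfsg.Lib.Class.Asch
open scoped MatrixGroups

variable {ι : Type} [Fintype ι] [DecidableEq ι] {F : Type*} [Field F] [Fintype F]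

theorem card_ne_six : Fintype.card F ≠ 6 := fun h => by
  have := FiniteField.isPrimePow_card F
  rw [h] at this
  revert this
  decide +kernel

/-- The numerical content of the minimality of the field. -/
theorem IsMinimalFieldFor.data {z p e : ℕ} (hz : z.Prime) (hzp : z ≠ p)
    (h : IsMinimalFieldFor z p e F) : 0 < e ∧ e < z ∧ (p % z) ^ e % z = 1 ∧
      ∀ d < e, 0 < d → (p % z) ^ d % z ≠ 1 := by
  obtain ⟨hp, -, hc, h1, h2⟩ := h
  have key : ∀ d, z ∣ p ^ d - 1 ↔ (p % z) ^ d % z = 1 := fun d => by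
    rw [← Nat.pow_mod, ← Nat.modEq_iff_dvd' (Nat.one_le_pow _ _ hp.pos), Nat.ModEq,
      Nat.mod_eq_of_lt hz.one_lt, eq_comm]
  have he : 0 < e := by
    rcases Nat.eq_zero_or_pos e with rfl | h
    · have := Fintype.one_lt_card (α := F)
      rw [pow_zero] at hc
      omega
    · exact h
  refine ⟨he, ?_, (key e).1 h1, fun d hd hd0 h => h2 d hd0 hd ((key d).2 h)⟩
  by_contra! hle
  have h3 := hz.two_le
  refine h2 (z - 1) (by omega) (by omega) ?_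
  have := Nat.ModEq.pow_totient ((Nat.coprime_primes hp hz).2 hzp.symm)
  rw [Nat.totient_prime hz] at this
  exact (Nat.modEq_iff_dvd' (Nat.one_le_pow _ _ hp.pos)).1 this.symm

/-- Numerical data of a class six subgroup in the linear case. -/
theorem IsLinearSymplecticTypeData.data (h3 : 3 ≤ Fintype.card ι) {r : ℕ} {R : Subgroup (GL ι F)}
    (h : IsLinearSymplecticTypeData r R) : ∃ p e : ℕ, p.Prime ∧ CharP F p ∧
      Fintype.card F = p ^ e ∧ ((Odd r ∧ Odd e ∧ e < r ∧ (p % r) ^ e % r = 1 ∧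
        ∀ d < e, 0 < d → (p % r) ^ d % r ≠ 1) ∨ (r = 2 ∧ e = 1 ∧ p % 4 = 1)) := by
  obtain ⟨p, e, hrp, hF, hc⟩ := h.field
  refine ⟨p, e, hF.1, hF.2.1, hF.2.2.1, ?_⟩
  rcases hc with ⟨h1, h2, h4, -⟩ | ⟨h1, h2, h4, -⟩ | ⟨-, -, h4, -⟩
  · rw [h4] at hF
    obtain ⟨-, h5, h6, h7⟩ := IsMinimalFieldFor.data h.symplecticType.prime hrp hF
    exact Or.inl ⟨h1, h2, h5, h6, h7⟩
  · have := hF.2.2.2.1
    have := hF.1.two_le
    rw [h4, h2, pow_one] at *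
    exact Or.inr ⟨h1, rfl, by omega⟩
  · omega

theorem IsLinearSymplecticTypeData.four_le (h3 : 3 ≤ Fintype.card ι) {r : ℕ}
    {R : Subgroup (GL ι F)} (h : IsLinearSymplecticTypeData r R) : 4 ≤ Fintype.card F := by
  obtain ⟨p, e, hrp, hF, hc⟩ := h.field
  have h1 := hF.2.2.2.1
  rw [← hF.2.2.1] at h1
  have h2 := Fintype.one_lt_card (α := F)
  have h4 := Nat.le_of_dvd (by omega) h1
  rcases hc with ⟨h5, -, h6, -⟩ | ⟨-, -, h6, -⟩ | ⟨-, -, h6, -⟩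
  · have := h.symplecticType.prime.two_le
    obtain ⟨k, hk⟩ := h5
    omega
  · omega
  · omega

/-- The alternatives for a maximal subgroup of the special linear group. -/
def LinMax (H : Subgroup (GL ι F)) : Prop :=
  (∃ W : Submodule F (ι → F), W ≠ ⊥ ∧ W ≠ ⊤ ∧ H = subspaceStabilizer W ⊓ specialLinear ι F) ∨
  (∃ (t m : ℕ) (D : Fin t → Submodule F (ι → F)), IsMDecomposition m D ∧
      Fintype.card ι = t * m ∧ (m = 1 → 5 ≤ Fintype.card F) ∧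
      (m = 1 → t = 4 → 7 ≤ Fintype.card F) ∧ (m = 2 → 3 ≤ Fintype.card F) ∧
      (m = 2 → t = 2 → 4 ≤ Fintype.card F) ∧ H = decompositionStabilizer D ⊓ specialLinear ι F) ∨
  (∃ (r : ℕ) (K : Subalgebra F (Matrix ι ι F)), r.Prime ∧ r ∣ Fintype.card ι ∧
      (Fintype.card ι = 3 → Fintype.card F ≠ 4) ∧ IsFieldSubalgebra r K ∧
      H = subalgebraNormalizer K ⊓ specialLinear ι F) ∨
  (∃ (n₁ n₂ : ℕ) (e : ι ≃ Fin n₁ × Fin n₂) (P : GL ι F), 2 ≤ n₁ ∧ n₁ < n₂ ∧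
      Fintype.card ι = n₁ * n₂ ∧ (n₁ = 2 → 3 ≤ Fintype.card F) ∧
      H = tensorProductSubgroup n₁ n₂ e P ⊓ specialLinear ι F) ∨
  (∃ (F₀ : Subfield F) (r : ℕ) (P : GL ι F), r.Prime ∧ Fintype.card F = Nat.card F₀ ^ r ∧
      H = subfieldSubgroup F₀ P ⊓ specialLinear ι F) ∨
  (∃ (r k : ℕ) (R : Subgroup (GL ι F)), r.Prime ∧ 1 ≤ k ∧ Fintype.card ι = r ^ k ∧
      IsLinearSymplecticTypeData r R ∧ H = subgroupNormalizer R ⊓ specialLinear ι F) ∨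
  (∃ (m t : ℕ) (e : ι ≃ (Fin t → Fin m)) (P : GL ι F), 3 ≤ m ∧ 2 ≤ t ∧ Fintype.card ι = m ^ t ∧
      H = tensorWreathSubgroup m t e P ⊓ specialLinear ι F) ∨
  (Odd (Fintype.card F) ∧ ∃ Q : (ι → F) → F, IsNondegenerateQuadraticForm Q ∧
      H = quadSimilarityGroup Q ⊓ specialLinear ι F) ∨
  (Even (Fintype.card ι) ∧ ∃ f : (ι → F) → (ι → F) → F, IsSymplecticForm f ∧
      H = similarityGroup f ⊓ specialLinear ι F) ∨
  (∃ (σ : F ≃+* F) (f : (ι → F) → (ι → F) → F), IsUnitaryForm σ f ∧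
      H = similarityGroup f ⊓ specialLinear ι F) ∨
  InLinearResidualClass H

theorem linMax (h3 : 3 ≤ Fintype.card ι) {H : Subgroup (GL ι F)}
    (hH : IsMaximalIn (specialLinear ι F) H) (hc : LinCase H) : LinMax H := by
  have h2 : 2 ≤ Fintype.card ι := by omega
  have : Nonempty ι := Fintype.card_pos_iff.1 (by omega)
  have hq := Fintype.one_lt_card (α := F)
  have c1 : ∀ W : Submodule F (ι → F), W ≠ ⊥ → W ≠ ⊤ → H ≤ subspaceStabilizer W → LinMax H :=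
    fun W h0 h1 h => Or.inl ⟨W, h0, h1, eq_inf_of_le hH h (not_SL_le_subspace h2 h0 h1)⟩
  have c5 : ∀ (F₀ : Subfield F) (r : ℕ) (P : GL ι F), r.Prime →
      Fintype.card F = Nat.card F₀ ^ r → H ≤ subfieldSubgroup F₀ P → LinMax H :=
    fun F₀ r P hr hF h => Or.inr <| Or.inr <| Or.inr <| Or.inr <| Or.inl ⟨F₀, r, P, hr, hF,
      eq_inf_of_le hH h (not_SL_le_subfield h2 (subfield_ne_top hr.two_le hF) P)⟩
  have c3 : ∀ (r : ℕ) (K : Subalgebra F (Matrix ι ι F)), r.Prime → IsFieldSubalgebra r K →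
      H ≤ subalgebraNormalizer K → LinMax H := by
    intro r K hr hK h
    have hd := IsFieldSubalgebra.dvd_card hK
    by_cases hx : Fintype.card ι = 3 ∧ Fintype.card F = 4
    · rw [hx.1] at hd
      obtain rfl := (Nat.prime_dvd_prime_iff_eq hr Nat.prime_three).1 hd
      obtain ⟨F₀, P, hF, hP⟩ := singer_four hx.2 hx.1 hK
      exact c5 F₀ 2 P Nat.prime_two hF (le_of_inf_le hH h hP)
    · exact Or.inr <| Or.inr <| Or.inl ⟨r, K, hr, hd, fun a b => hx ⟨a, b⟩, hK,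
        eq_inf_of_le hH h (not_SL_le_field h3 hr.two_le hK)⟩
  have c8o : ∀ Q : (ι → F) → F, IsNondegenerateQuadraticForm Q → Odd (Fintype.card F) →
      H ≤ quadSimilarityGroup Q → LinMax H := fun Q hQ ho h =>
    Or.inr <| Or.inr <| Or.inr <| Or.inr <| Or.inr <| Or.inr <| Or.inr <| Or.inl
      ⟨ho, Q, hQ, eq_inf_of_le hH h (not_SL_le_quad h3 hQ)⟩
  have c8s : ∀ f : (ι → F) → (ι → F) → F, IsSymplecticForm f → H ≤ similarityGroup f →
      LinMax H := fun f hf h =>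
    Or.inr <| Or.inr <| Or.inr <| Or.inr <| Or.inr <| Or.inr <| Or.inr <| Or.inr <| Or.inl
      ⟨even_card_of_isSymplecticForm hf, f, hf, eq_inf_of_le hH h (not_SL_le_symplectic h3 hf)⟩
  have c8u : ∀ (σ : F ≃+* F) (f : (ι → F) → (ι → F) → F), IsUnitaryForm σ f →
      H ≤ similarityGroup f → LinMax H := fun σ f hf h =>
    Or.inr <| Or.inr <| Or.inr <| Or.inr <| Or.inr <| Or.inr <| Or.inr <| Or.inr <| Or.inr <|
      Or.inl ⟨σ, f, hf, eq_inf_of_le hH h (not_SL_le_unitary h3 hf)⟩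
  rcases hc with ⟨W, h0, h1, h⟩ | ⟨t, m, D, hD, h⟩ | ⟨r, K, hr, hK, h⟩ | ⟨n₁, n₂, e, P, h1, h4, h⟩ |
    ⟨F₀, r, P, hr, hF, h⟩ | ⟨r, R, hR, hR', h⟩ | ⟨m, t, e, P, hm, ht, h⟩ | ⟨f, hf, -, h⟩ |
    ⟨σ, f, hf, h⟩ | ⟨Q, hQ, ho, h⟩ | h
  · exact c1 W h0 h1 h
  · by_cases a1 : m = 1 ∧ Fintype.card F = 2
    · obtain ⟨rfl, hF⟩ := a1
      obtain ⟨W, h0, h1, hW⟩ := frame_two hF hD
      exact c1 W h0 h1 (h.trans hW)
    by_cases a2 : m = 1 ∧ Fintype.card F = 3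
    · obtain ⟨rfl, hF⟩ := a2
      obtain ⟨Q, hQ, hW⟩ := frame_three hF hD
      exact c8o Q hQ (by rw [hF]; decide) (h.trans hW)
    by_cases a3 : m = 1 ∧ Fintype.card F = 4
    · obtain ⟨rfl, hF⟩ := a3
      obtain ⟨σ, f, hf, hW⟩ := frame_four hF hD
      exact c8u σ f hf (h.trans hW)
    by_cases a4 : m = 1 ∧ t = 4 ∧ Fintype.card F = 5
    · obtain ⟨rfl, rfl, hF⟩ := a4
      exact (frame_five hF hD hH h).elim
    by_cases a5 : m = 2 ∧ Fintype.card F = 2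
    · obtain ⟨rfl, hF⟩ := a5
      obtain ⟨f, hf, hW⟩ := planes_two hF hD
      exact c8s f hf (h.trans hW)
    by_cases a6 : m = 2 ∧ t = 2 ∧ Fintype.card F = 3
    · obtain ⟨rfl, rfl, hF⟩ := a6
      obtain ⟨f, hf, hW⟩ := planes_three hF hD
      exact c8s f hf (le_of_inf_le hH h hW)
    have := card_ne_six (F := F)
    exact Or.inr <| Or.inl ⟨t, m, D, hD, card_eq_of_isMDecomposition hD, by omega, by omega,
      by omega, by omega, eq_inf_of_le hH h (not_SL_le_decomposition h2 hD)⟩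
  · exact c3 r K hr hK h
  · by_cases a1 : n₁ = 2 ∧ Fintype.card F = 2
    · obtain ⟨rfl, hF⟩ := a1
      obtain ⟨K, hK, hK'⟩ := tensor_two hF e P
      exact c3 2 K Nat.prime_two hK (h.trans hK')
    · exact Or.inr <| Or.inr <| Or.inr <| Or.inl ⟨n₁, n₂, e, P, h1, h4,
        by simpa using Fintype.card_congr e, by omega,
        eq_inf_of_le hH h (not_SL_le_tensor h1 (by omega) e P)⟩
  · exact c5 F₀ r P hr hF h
  · obtain ⟨k, hk, hk'⟩ := hR'.exists_card_eq_pow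
    exact Or.inr <| Or.inr <| Or.inr <| Or.inr <| Or.inr <| Or.inl ⟨r, k, R, hR'.prime, hk, hk', hR,
      eq_inf_of_le hH h (not_SL_le_normalizer h3 (IsLinearSymplecticTypeData.four_le h3 hR) hR')⟩
  · exact Or.inr <| Or.inr <| Or.inr <| Or.inr <| Or.inr <| Or.inr <| Or.inl ⟨m, t, e, P, hm, ht,
      by simpa using Fintype.card_congr e, eq_inf_of_le hH h (not_SL_le_wreath ht (by omega) e P)⟩
  · exact c8s f hf h
  · exact c8u σ f hf h
  · exact c8o Q hQ ho h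
  · exact Or.inr <| Or.inr <| Or.inr <| Or.inr <| Or.inr <| Or.inr <| Or.inr <| Or.inr <| Or.inr <|
      Or.inr h

/-! ### Numerical lemmas -/

theorem pow_eq_nine_of_le {n m t : ℕ} (hm : 3 ≤ m) (ht : 2 ≤ t) (h : n = m ^ t) (hn : n ≤ 12) :
    n = 9 ∧ m = 3 ∧ t = 2 := by
  have h1 : m ^ 2 ≤ m ^ t := Nat.pow_le_pow_right (by omega) ht
  have h2 : m = 3 := by nlinarith
  subst h2
  have h3 : t < 3 := by
    by_contra! h3
    have := Nat.pow_le_pow_right (show 0 < 3 by omega) h3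
    omega
  obtain rfl : t = 2 := by omega
  exact ⟨h, rfl, rfl⟩

theorem eq_of_prime_pow {n r k s : ℕ} (hr : r.Prime) (hs : s.Prime) (h : n = r ^ k) (hsn : s ∣ n) :
    r = s := ((Nat.prime_dvd_prime_iff_eq hs hr).1 (hs.dvd_of_dvd_pow (h ▸ hsn))).symm

theorem IsLinearSymplecticTypeData.two (h3 : 3 ≤ Fintype.card ι) {R : Subgroup (GL ι F)}
    (h : IsLinearSymplecticTypeData 2 R) : ∃ p : ℕ, p.Prime ∧ Fintype.card F = p ∧ p % 4 = 1 := by
  obtain ⟨p, e, hp, -, hc, ⟨h1, -⟩ | ⟨-, rfl, h1⟩⟩ := IsLinearSymplecticTypeData.data h3 h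
  · exact absurd h1 (by decide)
  · exact ⟨p, hp, by simpa using hc, h1⟩

theorem IsLinearSymplecticTypeData.three (h3 : 3 ≤ Fintype.card ι) {R : Subgroup (GL ι F)}
    (h : IsLinearSymplecticTypeData 3 R) : ∃ p : ℕ, p.Prime ∧ Fintype.card F = p ∧ p % 3 = 1 := by
  obtain ⟨p, e, hp, -, hc, ⟨-, h1, h2, h4, h5⟩ | ⟨h1, -⟩⟩ := IsLinearSymplecticTypeData.data h3 h
  · have key : ∀ a < 3, ∀ e < 3, Odd e → a ^ e % 3 = 1 → (∀ d < e, 0 < d → a ^ d % 3 ≠ 1) →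
        e = 1 ∧ a = 1 := by decide +kernel
    obtain ⟨rfl, h6⟩ := key _ (Nat.mod_lt p (by norm_num)) e h2 h1 h4 h5
    exact ⟨p, hp, by simpa using hc, h6⟩
  · omega

theorem IsLinearSymplecticTypeData.five (h3 : 3 ≤ Fintype.card ι) {R : Subgroup (GL ι F)}
    (h : IsLinearSymplecticTypeData 5 R) : ∃ p : ℕ, p.Prime ∧ Fintype.card F = p ∧ p % 5 = 1 := by
  obtain ⟨p, e, hp, -, hc, ⟨-, h1, h2, h4, h5⟩ | ⟨h1, -⟩⟩ := IsLinearSymplecticTypeData.data h3 h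
  · have key : ∀ a < 5, ∀ e < 5, Odd e → a ^ e % 5 = 1 → (∀ d < e, 0 < d → a ^ d % 5 ≠ 1) →
        e = 1 ∧ a = 1 := by decide +kernel
    obtain ⟨rfl, h6⟩ := key _ (Nat.mod_lt p (by norm_num)) e h2 h1 h4 h5
    exact ⟨p, hp, by simpa using hc, h6⟩
  · omega

theorem IsLinearSymplecticTypeData.seven (h3 : 3 ≤ Fintype.card ι) {R : Subgroup (GL ι F)}
    (h : IsLinearSymplecticTypeData 7 R) : ∃ p : ℕ, p.Prime ∧ CharP F p ∧
      ((Fintype.card F = p ∧ p % 7 = 1) ∨ (Fintype.card F = p ^ 3 ∧ (p % 7 = 2 ∨ p % 7 = 4))) := by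
  obtain ⟨p, e, hp, hF, hc, ⟨-, h1, h2, h4, h5⟩ | ⟨h1, -⟩⟩ := IsLinearSymplecticTypeData.data h3 h
  · have key : ∀ a < 7, ∀ e < 7, Odd e → a ^ e % 7 = 1 → (∀ d < e, 0 < d → a ^ d % 7 ≠ 1) →
        (e = 1 ∧ a = 1) ∨ (e = 3 ∧ (a = 2 ∨ a = 4)) := by decide +kernel
    refine ⟨p, hp, hF, ?_⟩
    rcases key _ (Nat.mod_lt p (by norm_num)) e h2 h1 h4 h5 with ⟨rfl, h6⟩ | ⟨rfl, h6⟩
    · exact Or.inl ⟨by simpa using hc, h6⟩
    · exact Or.inr ⟨hc, h6⟩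
  · omega

theorem IsLinearSymplecticTypeData.eleven (h3 : 3 ≤ Fintype.card ι) {R : Subgroup (GL ι F)}
    (h : IsLinearSymplecticTypeData 11 R) : ∃ p : ℕ, p.Prime ∧ CharP F p ∧
      ((Fintype.card F = p ∧ p % 11 = 1) ∨ (Fintype.card F = p ^ 5 ∧
        (p % 11 = 3 ∨ p % 11 = 4 ∨ p % 11 = 5 ∨ p % 11 = 9))) := by
  obtain ⟨p, e, hp, hF, hc, ⟨-, h1, h2, h4, h5⟩ | ⟨h1, -⟩⟩ := IsLinearSymplecticTypeData.data h3 h
  · have key : ∀ a < 11, ∀ e < 11, Odd e → a ^ e % 11 = 1 → (∀ d < e, 0 < d → a ^ d % 11 ≠ 1) →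
        (e = 1 ∧ a = 1) ∨ (e = 5 ∧ (a = 3 ∨ a = 4 ∨ a = 5 ∨ a = 9)) := by decide +kernel
    refine ⟨p, hp, hF, ?_⟩
    rcases key _ (Nat.mod_lt p (by norm_num)) e h2 h1 h4 h5 with ⟨rfl, h6⟩ | ⟨rfl, h6⟩
    · exact Or.inl ⟨by simpa using hc, h6⟩
    · exact Or.inr ⟨hc, h6⟩
  · omega

end Cfsg.Lib.Class.AL
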